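import Mathlib
import Cfsg.Agent.SmallSimple.IndexJordan
import Cfsg.Agent.H452.FprCyc
import Cfsg.Agent.H547.SelfCent.Base
import Cfsg.Agent.S0725
import Cfsg.Agent.FastGrp
import Cfsg.Agent.Prune
set_option linter.all false

section
prune_inst 0x7f00000000000000000000000000000000000000000000000000000000000000000000000000000000000000000000000000000000000000000000000000000000000000000000000000000000000000003fffffffffffffffffffffffffffbeffbdffbfffff

-- part: H394/SqJordan
section
set_option linter.all false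
open scoped Cfsg.Agent.FastGrp

/-!
# Elements of prime order acting on the cosets of a maximal subgroup
-/

set_option autoImplicit false

namespace Cfsg.Agent.H394.SqJordan

open MulAction Subgroup
open scoped Nat

/-- Jordan's theorem for the action on the cosets of a maximal subgroup. -/
theorem jordan {T : Type*} [Group T] [Finite T] [IsSimpleGroup T] {M : Subgroup T} (hM : IsCoatom M)
    {l : ℕ} (hl : l.Prime) {g : T} (hg : g ^ l = 1) (hg1 : g ≠ 1)
    (hf : M.index < {x : T ⧸ M | g • x = x}.ncard + 2 * l) (h3 : l + 3 ≤ M.index) (h5 : 5 ≤ M.index) :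
    (M.index)! ≤ 2 * Nat.card T := by
  classical
  let X := T ⧸ M
  have hX : Nat.card X = M.index := rfl
  have : Fintype X := Fintype.ofFinite X
  have hXf : Fintype.card X = M.index := by rw [← hX, Nat.card_eq_fintype_card]
  let f : T →* Equiv.Perm X := toPermHom T X
  have hfi : Function.Injective f := SmallSimple.IndexJordan.toPermHom_injective hM.1
  have hprim : IsPreprimitive T X := SmallSimple.IndexJordan.isPreprimitive_quotient hM
  have hprim' : IsPreprimitive f.range X := SmallSimple.IndexJordan.isPreprimitive_range T X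
  have hord : orderOf g = l := by
    have := Fact.mk hl
    exact orderOf_eq_prime hg hg1
  have hordf : orderOf (f g) = l := by rw [orderOf_injective f hfi, hord]
  have hsupp : (f g).support.card + {x : T ⧸ M | g • x = x}.ncard = M.index := by
    have h1 : ({x : T ⧸ M | g • x = x} : Set X).ncard = ((f g).supportᶜ : Finset X).card := by
      rw [← Set.ncard_coe_finset]
      congr 1
      ext x
      simp only [Set.mem_setOf_eq, Finset.coe_compl, Set.mem_compl_iff, Finset.mem_coe, Equiv.Perm.mem_support,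
        not_not]
      rfl
    rw [h1, Finset.card_compl, hXf]
    have h2 : (f g).support.card ≤ Fintype.card X := Finset.card_le_univ _
    rw [hXf] at h2
    omega
  have hcyc : (f g).IsCycle := Equiv.Perm.isCycle_of_prime_order (by rw [hordf]; exact hl) (by rw [hordf]; omega)
  have hJ := Cfsg.Agent.S0713.result f.range hprim' hl (by rw [hXf]; exact h5) (by rw [hXf]; exact h3)
    (g := f g) hcyc (by rw [← hcyc.orderOf, hordf]) ⟨g, rfl⟩
  have hcardle := Subgroup.card_le_of_le hJ
  have h4 : Nat.card f.range = Nat.card T := (Nat.card_congr (MonoidHom.ofInjective hfi).toEquiv).symm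
  rw [h4] at hcardle
  have : Nontrivial X := by
    rw [← Fintype.one_lt_card_iff_nontrivial, hXf]; omega
  have h5 : 2 * Nat.card (alternatingGroup X) = Nat.card (Equiv.Perm X) := two_mul_nat_card_alternatingGroup
  rw [Nat.card_perm, hX] at h5
  omega

/-- The number of fixed points is congruent to the index. -/
theorem card_fix_mod {G X : Type*} [Group G] [MulAction G X] [Finite X] {l : ℕ} (hl : l.Prime) {g : G}
    (hg : g ^ l = 1) : {x : X | g • x = x}.ncard ≡ Nat.card X [MOD l] := by
  classical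
  have := Fact.mk hl
  have : Fintype X := Fintype.ofFinite X
  have hp : IsPGroup l (zpowers g) := by
    rintro ⟨y, n, rfl⟩
    refine ⟨1, Subtype.ext ?_⟩
    show (g ^ n) ^ l ^ 1 = 1
    rw [pow_one, ← zpow_natCast, ← zpow_mul, mul_comm, zpow_mul, zpow_natCast, hg, one_zpow]
  have h1 := hp.card_modEq_card_fixedPoints (α := X)
  have h2 : Nat.card (fixedPoints (zpowers g) X) = {x : X | g • x = x}.ncard := by
    rw [← Nat.card_coe_set_eq]
    congr 1
    apply congrArg
    ext x
    constructor
    · intro hx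
      exact hx ⟨g, mem_zpowers g⟩
    · rintro hx ⟨y, n, rfl⟩
      have h3 : g ∈ stabilizer G x := hx
      exact zpow_mem h3 n
  rw [h2] at h1
  exact h1.symm

/-- A set of fixed points of a Sylow subgroup: `|Fix(P)| |N_M(P)| = |N_T(P)|`; stated as a divisibility. -/
theorem card_fix_mul {T : Type*} [Group T] [Finite T] {M : Subgroup T} {l : ℕ} (hl : l.Prime) {g : T}
    (ho : orderOf g = l) (hsq : ¬ l ^ 2 ∣ Nat.card T) (hM : l ∣ Nat.card M) :
    l * {x : T ⧸ M | g • x = x}.ncard ∣ Nat.card (normalizer (zpowers g : Set T)) := by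
  classical
  have hfl := Fact.mk hl
  have hgl : g ^ l = 1 := by rw [← ho]; exact pow_orderOf_eq_one g
  -- conjugacy of subgroups of order `l` in any subgroup
  have hsyl : ∀ (A : Subgroup T) (a b : T), a ∈ A → b ∈ A → orderOf a = l → orderOf b = l →
      ∃ m ∈ A, zpowers (m * a * m⁻¹) = zpowers b := by
    intro A a b ha hb hao hbo
    have hcardA : ¬ l ^ 2 ∣ Nat.card A := fun h => hsq (h.trans A.card_subgroup_dvd_card)
    have hS : ∀ c : T, (hc : c ∈ A) → orderOf c = l → ∃ P : Sylow l A, (P : Subgroup A) = zpowers ⟨c, hc⟩ := by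
      intro c hc hco
      have h1 : Nat.card (zpowers (⟨c, hc⟩ : A)) = l := by
        rw [Nat.card_zpowers]
        have : orderOf (⟨c, hc⟩ : A) = orderOf c := (orderOf_injective A.subtype A.subtype_injective ⟨c, hc⟩).symm
        rw [this, hco]
      have hpg : IsPGroup l (zpowers (⟨c, hc⟩ : A)) := IsPGroup.of_card (n := 1) (by rw [h1, pow_one])
      obtain ⟨P, hP⟩ := hpg.exists_le_sylow
      refine ⟨P, (Subgroup.eq_of_le_of_card_ge hP ?_).symm⟩
      rw [h1]
      obtain ⟨k, hk⟩ := IsPGroup.iff_card.1 P.isPGroup'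
      rw [show Nat.card (P : Subgroup A) = l ^ k from hk]
      rcases Nat.lt_or_ge k 2 with h2 | h2
      · calc l ^ k ≤ l ^ 1 := Nat.pow_le_pow_right hl.pos (by omega)
          _ = l := pow_one l
      · exact absurd ((pow_dvd_pow l h2).trans (hk ▸ (P : Subgroup A).card_subgroup_dvd_card)) hcardA
    obtain ⟨P, hP⟩ := hS a ha hao
    obtain ⟨Q, hQ⟩ := hS b hb hbo
    obtain ⟨m, hm⟩ := exists_smul_eq A P Q
    refine ⟨m, m.2, ?_⟩
    have h1 : ((m • P : Sylow l A) : Subgroup A) = Q := by rw [hm]
    have h2 : (zpowers (⟨a, ha⟩ : A)).map (MulAut.conj m).toMonoidHom = zpowers (⟨b, hb⟩ : A) := by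
      rw [← hP, ← hQ, ← h1]
      rfl
    rw [MonoidHom.map_zpowers] at h2
    have h3 := congrArg (Subgroup.map A.subtype) h2
    rw [MonoidHom.map_zpowers, MonoidHom.map_zpowers] at h3
    exact h3
  set N := normalizer (zpowers g : Set T) with hN
  set F : Set (T ⧸ M) := {x : T ⧸ M | g • x = x} with hF
  -- a fixed point
  obtain ⟨y, hy⟩ := exists_prime_orderOf_dvd_card' l hM
  have hyo : orderOf (y : T) = l := (orderOf_injective M.subtype M.subtype_injective y).trans hy
  obtain ⟨s, -, hs⟩ := hsyl ⊤ g y (mem_top _) (mem_top _) ho hyo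
  have hbase : g • (QuotientGroup.mk s⁻¹ : T ⧸ M) = QuotientGroup.mk s⁻¹ := by
    show (QuotientGroup.mk (g * s⁻¹) : T ⧸ M) = QuotientGroup.mk s⁻¹
    rw [eq_comm, QuotientGroup.eq, inv_inv]
    have h1 : s * g * s⁻¹ ∈ zpowers (y : T) := by rw [← hs]; exact mem_zpowers _
    rw [← mul_assoc]
    exact (zpowers_le.2 y.2) h1
  set x₀ : T ⧸ M := QuotientGroup.mk s⁻¹ with hx₀
  -- the normalizer is transitive on the fixed points
  have htr : ∀ x ∈ F, ∃ n ∈ N, n • x₀ = x := by
    intro x hx
    obtain ⟨t, rfl⟩ := exists_smul_eq T x₀ x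
    have h1 : t⁻¹ * g * t ∈ stabilizer T x₀ := by
      rw [mem_stabilizer_iff, mul_smul, mul_smul, show g • t • x₀ = t • x₀ from hx, inv_smul_smul]
    have h2 : orderOf (t⁻¹ * g * t) = l := by
      have h3 : t⁻¹ * g * t = MulAut.conj t⁻¹ g := by rw [MulAut.conj_apply, inv_inv]
      have h4 : orderOf (MulAut.conj t⁻¹ g) = orderOf g :=
        orderOf_injective (MulAut.conj t⁻¹).toMonoidHom (MulAut.conj t⁻¹).injective g
      rw [h3, h4, ho]
    obtain ⟨m, hm, hmz⟩ := hsyl (stabilizer T x₀) g (t⁻¹ * g * t) hbase h1 ho h2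
    refine ⟨t * m, ?_, ?_⟩
    · have h3 : (t * m) * g * (t * m)⁻¹ ∈ zpowers g := by
        have h4 : m * g * m⁻¹ ∈ zpowers (t⁻¹ * g * t) := by rw [← hmz]; exact mem_zpowers _
        obtain ⟨n, hn⟩ := h4
        refine ⟨n, ?_⟩
        have h5 : (t⁻¹ * g * t) ^ n = t⁻¹ * g ^ n * t := by
          have := conj_zpow (i := n) (a := t⁻¹) (b := g)
          rwa [inv_inv] at this
        have h6 : t⁻¹ * g ^ n * t = m * g * m⁻¹ := by rw [← h5]; exact hn
        show g ^ n = _
        calc g ^ n = t * (t⁻¹ * g ^ n * t) * t⁻¹ := by group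
          _ = _ := by rw [h6]; group
      have h4 : (zpowers g).map (MulAut.conj (t * m)).toMonoidHom ≤ zpowers g := by
        rw [MonoidHom.map_zpowers, zpowers_le]
        exact h3
      have h5 : (zpowers g).map (MulAut.conj (t * m)).toMonoidHom = zpowers g :=
        Subgroup.eq_of_le_of_card_ge h4 (by rw [card_map_of_injective (MulAut.conj (t * m)).injective])
      rw [hN, mem_normalizer_iff]
      intro z
      constructor
      · intro hz
        rw [← h5]
        exact ⟨z, hz, rfl⟩
      · intro hz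
        have hz' : t * m * z * (t * m)⁻¹ ∈ zpowers g := hz
        rw [← h5] at hz'
        obtain ⟨w, hw, hwz⟩ := hz'
        have : w = z := (MulAut.conj (t * m)).injective hwz
        rwa [← this]
    · rw [mul_smul, show m • x₀ = x₀ from hm]
  -- the orbit
  have horb : orbit N x₀ = F := by
    ext x
    constructor
    · rintro ⟨n, rfl⟩
      show g • ((n : T) • x₀) = (n : T) • x₀
      have h1 : (n : T)⁻¹ * g * n ∈ zpowers g := by
        have := (mem_normalizer_iff.1 (inv_mem n.2) g).1 (mem_zpowers g)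
        rwa [inv_inv] at this
      have h2 : (n : T)⁻¹ * g * n ∈ stabilizer T x₀ := (zpowers_le.2 (show g ∈ stabilizer T x₀ from hbase)) h1
      rw [mem_stabilizer_iff, mul_smul, mul_smul, inv_smul_eq_iff] at h2
      exact h2
    · intro hx
      obtain ⟨n, hn, hnx⟩ := htr x hx
      exact ⟨⟨n, hn⟩, hnx⟩
  have hcard : F.ncard = (stabilizer N x₀).index := by
    rw [index_stabilizer, horb]
  have hgN : g ∈ N := (le_normalizer (H := zpowers g)) (mem_zpowers g)
  have hst : l ∣ Nat.card (stabilizer N x₀) := by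
    have h1 : (⟨g, hgN⟩ : N) ∈ stabilizer N x₀ := hbase
    have h2 : orderOf (⟨⟨g, hgN⟩, h1⟩ : stabilizer N x₀) = l := by
      rw [← ho]
      have e1 := orderOf_injective (stabilizer N x₀).subtype (stabilizer N x₀).subtype_injective ⟨⟨g, hgN⟩, h1⟩
      have e2 := orderOf_injective N.subtype N.subtype_injective ⟨g, hgN⟩
      rw [← e1]
      exact e2.symm
    rw [← h2]
    exact orderOf_dvd_natCard _
  rw [hcard, ← (stabilizer N x₀).card_mul_index]
  exact Nat.mul_dvd_mul_right hst _

end Cfsg.Agent.H394.SqJordan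
end

-- part: H444/FprTable
section
set_option linter.all false
open scoped Cfsg.Agent.FastGrp

-- part: H444/FprNorm
section
/-!
# Fixed points of a `p`-element normalising a Sylow `r`-subgroup without fixed points (helper444)

`norm_bound` : `x` a `p`-element normalising a Sylow `r`-subgroup `R`, `C_R(x) = 1`, `f = |Fix R|`:
`fix(x) = φ + s` with `f + m s ≤ n`, `φ ≤ f`, and `φ = 0` unless `f |R| p ∣ |N(R)|`.
-/

set_option autoImplicit false
set_option linter.unusedSectionVars false
open Subgroup MulAction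
open scoped Pointwise

namespace Cfsg.Agent.H444.Fpr

section

variable {G X : Type*} [Group G] [MulAction G X]

/-- The count for one radical `R`, with all fixed points of `R`. -/
theorem one_rad' [Finite G] [Finite X] {R : Subgroup G} {x : G} (hn : ∀ y ∈ R, x * y * x⁻¹ ∈ R)
    (hC : ∀ y ∈ R, x * y = y * x → y = 1) {m : ℕ}
    (hm : ∀ ω : X, x • ω = ω → (∃ y ∈ R, y • ω ≠ ω) → m ≤ Nat.card (orbit R ω)) :
    {ω : X | ∀ y ∈ R, y • ω = ω}.ncard +
      m * {ω : X | x • ω = ω ∧ ∃ y ∈ R, y • ω ≠ ω}.ncard ≤ Nat.card X := by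
  classical
  set Φ : Set X := {ω : X | ∀ y ∈ R, y • ω = ω} with hΦ
  set F : Set X := {ω : X | x • ω = ω ∧ ∃ y ∈ R, y • ω ≠ ω} with hF
  let U : Set X := ⋃ ω ∈ F, orbit R ω
  have hdisj : F.PairwiseDisjoint (fun ω => orbit R ω) := by
    intro ω hω ω' hω' hne
    rw [Function.onFun, Set.disjoint_left]
    intro z hz hz'
    apply hne
    have h1 : orbit R ω = orbit R ω' := by
      rw [← orbit_eq_iff.2 hz, ← orbit_eq_iff.2 hz']
    have h2 : ω' ∈ orbit R ω := by
      rw [h1]
      exact mem_orbit_self _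
    obtain ⟨⟨y, hy⟩, hyω⟩ := h2
    have hyω' : y • ω = ω' := hyω
    have h3 := H409.fpf_unique hn hC hω.1 hy (by rw [hyω']; exact hω'.1)
    rw [← hyω', h3]
  have hcard : m * F.ncard ≤ U.ncard := by
    have : Fintype X := Fintype.ofFinite X
    have h1 : U = ((Set.toFinset F).biUnion (fun ω => (orbit R ω).toFinset) : Finset X) := by
      ext z
      simp [U]
    rw [h1, Set.ncard_coe_finset, Finset.card_biUnion]
    · have h2 : ∀ ω ∈ F.toFinset, m ≤ ((orbit R ω).toFinset).card := by
        intro ω hω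
        rw [Set.mem_toFinset] at hω
        have := hm ω hω.1 hω.2
        rwa [Nat.card_eq_fintype_card, ← Set.toFinset_card] at this
      calc m * F.ncard = F.toFinset.card • m := by
            rw [Set.ncard_eq_toFinset_card', smul_eq_mul, mul_comm]
        _ ≤ ∑ ω ∈ F.toFinset, ((orbit R ω).toFinset).card :=
            Finset.card_nsmul_le_sum _ _ _ h2
    · intro ω hω ω' hω' hne
      have := hdisj (by simpa using hω) (by simpa using hω') hne
      change Disjoint (orbit R ω).toFinset (orbit R ω').toFinset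
      rw [Set.disjoint_toFinset]
      exact this
  have hd : Disjoint Φ U := by
    rw [Set.disjoint_left]
    intro z hz hz'
    simp only [U, Set.mem_iUnion] at hz'
    obtain ⟨ω, hω, hzω⟩ := hz'
    obtain ⟨⟨y, hy⟩, hyω⟩ := hzω
    have hyω' : y • ω = z := hyω
    have h1 : y⁻¹ • z = z := hz _ (R.inv_mem hy)
    rw [← hyω', inv_smul_smul] at h1
    rw [← hyω', ← h1] at hz
    obtain ⟨-, y', hy', hne⟩ := hω
    exact hne (hz y' hy')
  calc Φ.ncard + m * F.ncard ≤ Φ.ncard + U.ncard := Nat.add_le_add_left hcard _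
    _ = (Φ ∪ U).ncard := (Set.ncard_union_eq hd).symm
    _ ≤ (Set.univ : Set X).ncard := Set.ncard_le_ncard (Set.subset_univ _)
    _ = Nat.card X := Set.ncard_univ _

/-- The normaliser of a Sylow subgroup is transitive on its fixed points. -/
theorem exists_norm_smul [Finite G] {r : ℕ} [Fact r.Prime] (R : Sylow r G) {a b : X}
    (ha : ∀ y ∈ R, y • a = a) (hb : ∀ y ∈ R, y • b = b) (hab : b ∈ orbit G a) :
    ∃ g ∈ normalizer ((R : Subgroup G) : Set G), g • a = b := by
  obtain ⟨g, rfl⟩ := hab
  have hb' : ∀ y ∈ R, y • g • a = g • a := hb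
  have h1 : (R : Subgroup G) ≤ stabilizer G a := fun y hy => ha y hy
  have h2 : ((g⁻¹ • R : Sylow r G) : Subgroup G) ≤ stabilizer G a := by
    rw [Sylow.coe_subgroup_smul]
    rintro _ ⟨k, hk, rfl⟩
    have hk' : k ∈ R := hk
    change (g⁻¹ * k * g⁻¹⁻¹) • a = a
    rw [inv_inv, mul_smul, mul_smul, hb' k hk', inv_smul_smul]
  obtain ⟨h, hh⟩ := exists_smul_eq (stabilizer G a) ((g⁻¹ • R).subtype h2) (R.subtype h1)
  simp_rw [Sylow.smul_subtype, Subgroup.smul_def, smul_smul] at hh
  have h3 : (h : G) * g⁻¹ ∈ normalizer ((R : Subgroup G) : Set G) :=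
    Sylow.smul_eq_iff_mem_normalizer.mp (Sylow.subtype_injective hh)
  refine ⟨((h : G) * g⁻¹)⁻¹, inv_mem h3, ?_⟩
  have h4 : (h : G)⁻¹ • a = a := inv_mem h.2
  rw [mul_inv_rev, inv_inv, mul_smul, h4]

/-- the fixed points of a Sylow subgroup: their number -/
theorem card_fix_mul [Finite G] [Finite X] [IsPretransitive G X] {r : ℕ} [Fact r.Prime] (R : Sylow r G) {a : X}
    (ha : ∀ y ∈ R, y • a = a) :
    {ω : X | ∀ y ∈ R, y • ω = ω}.ncard *
      Nat.card (normalizer ((R : Subgroup G) : Set G) ⊓ stabilizer G a : Subgroup G) =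
      Nat.card (normalizer ((R : Subgroup G) : Set G)) := by
  classical
  set N := normalizer ((R : Subgroup G) : Set G) with hN
  have h1 : {ω : X | ∀ y ∈ R, y • ω = ω} = orbit N a := by
    ext ω
    constructor
    · intro hω
      obtain ⟨g, hg, h⟩ := exists_norm_smul R ha hω (exists_smul_eq G a ω)
      exact ⟨⟨g, hg⟩, h⟩
    · rintro ⟨⟨g, hg⟩, rfl⟩ y hy
      change y • g • a = g • a
      have h2 : g⁻¹ * y * g⁻¹⁻¹ ∈ (R : Subgroup G) := by
        have := (Subgroup.mem_normalizer_iff.1 (inv_mem hg) y).1 hy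
        exact this
      have h3 := ha _ h2
      rw [inv_inv, mul_smul, mul_smul, inv_smul_eq_iff] at h3
      exact h3
  have h2 : Nat.card (stabilizer N a) = Nat.card (N ⊓ stabilizer G a : Subgroup G) := by
    refine Nat.card_congr ⟨fun z => ⟨z.1.1, z.1.2, z.2⟩, fun z => ⟨⟨z.1, z.2.1⟩, z.2.2⟩, fun _ => rfl, fun _ => rfl⟩
  rw [h1, ← h2, ← Nat.card_coe_set_eq, Nat.card_congr (orbitEquivQuotientStabilizer N a), mul_comm]
  exact Subgroup.card_mul_index _

/-- **Bound for `x` normalising a Sylow `r`-subgroup `R` with `C_R(x) = 1`.** -/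
theorem norm_bound [Finite G] [Finite X] [IsPretransitive G X] {p r : ℕ} (hp : p.Prime) [Fact r.Prime]
    (hpr : p ≠ r) (R : Sylow r G) {x : G} (hx : ∃ k, orderOf x = p ^ k) (hx1 : x ≠ 1)
    (hxR : x ∈ normalizer ((R : Subgroup G) : Set G)) (hfree : ∀ y ∈ R, x * y = y * x → y = 1) {m : ℕ}
    (hm : ∀ ω : X, (∃ y ∈ R, y • ω ≠ ω) → m ≤ Nat.card (orbit (R : Subgroup G) ω)) :
    ∃ f φ s : ℕ, Nat.card (fixedBy X x) = φ + s ∧ f + m * s ≤ Nat.card X ∧ φ ≤ f ∧
      (φ ≠ 0 → f * (Nat.card R * p) ∣ Nat.card (normalizer ((R : Subgroup G) : Set G))) ∧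
      (f ≠ 0 → f * Nat.card R ∣ Nat.card (normalizer ((R : Subgroup G) : Set G))) ∧
      f % r = Nat.card X % r ∧ (r ∣ Nat.card X → f = 0) ∧
      (Nat.card X ≤ f → ∀ y ∈ R, ∀ ω : X, y • ω = ω) := by
  classical
  have hr : r.Prime := Fact.out
  have hn : ∀ y ∈ (R : Subgroup G), x * y * x⁻¹ ∈ (R : Subgroup G) := fun y hy =>
    (Subgroup.mem_normalizer_iff.1 hxR y).1 hy
  have h0 := one_rad' (X := X) hn hfree (m := m) (fun ω _ h => hm ω h)
  refine ⟨{ω : X | ∀ y ∈ (R : Subgroup G), y • ω = ω}.ncard,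
    {ω : X | x • ω = ω ∧ ∀ y ∈ (R : Subgroup G), y • ω = ω}.ncard,
    {ω : X | x • ω = ω ∧ ∃ y ∈ (R : Subgroup G), y • ω ≠ ω}.ncard, ?_, h0, ?_, ?_, ?_, ?_, ?_, ?_⟩
  · have h1 : (fixedBy X x) = {ω : X | x • ω = ω ∧ ∀ y ∈ (R : Subgroup G), y • ω = ω} ∪
        {ω : X | x • ω = ω ∧ ∃ y ∈ (R : Subgroup G), y • ω ≠ ω} := by
      ext ω
      simp only [mem_fixedBy, Set.mem_union, Set.mem_setOf_eq]
      constructor
      · intro h
        by_cases h2 : ∀ y ∈ (R : Subgroup G), y • ω = ω
        · exact Or.inl ⟨h, h2⟩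
        · push Not at h2
          exact Or.inr ⟨h, h2⟩
      · rintro (h | h) <;> exact h.1
    rw [Nat.card_coe_set_eq, h1, Set.ncard_union_eq]
    rw [Set.disjoint_left]
    rintro ω ⟨-, h2⟩ ⟨-, y, hy, h3⟩
    exact h3 (h2 y hy)
  · exact Set.ncard_le_ncard (fun ω hω => hω.2) (Set.toFinite _)
  · intro hφ
    obtain ⟨a, ha⟩ := (Set.ncard_pos (Set.toFinite _)).1 (Nat.pos_of_ne_zero hφ)
    have h1 := card_fix_mul (X := X) R (a := a) ha.2
    have h1' : {ω : X | ∀ y ∈ (R : Subgroup G), y • ω = ω}.ncard *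
      Nat.card (normalizer ((R : Subgroup G) : Set G) ⊓ stabilizer G a : Subgroup G) =
      Nat.card (normalizer ((R : Subgroup G) : Set G)) := h1
    rw [← h1']
    refine Nat.mul_dvd_mul_left _ ?_
    refine Nat.Coprime.mul_dvd_of_dvd_of_dvd ?_ ?_ ?_
    · obtain ⟨k, hk⟩ := R.isPGroup'.exists_card_eq
      rw [show Nat.card R = r ^ k from hk]
      exact ((Nat.coprime_primes hr hp).2 hpr.symm).pow_left k
    · exact card_dvd_of_le (le_inf le_normalizer fun y hy => ha.2 y hy)
    · have h2 : x ∈ (normalizer ((R : Subgroup G) : Set G) ⊓ stabilizer G a : Subgroup G) := ⟨hxR, ha.1⟩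
      have h3 : orderOf x ∣ Nat.card (normalizer ((R : Subgroup G) : Set G) ⊓ stabilizer G a : Subgroup G) := by
        have := orderOf_dvd_natCard (⟨x, h2⟩ : (normalizer ((R : Subgroup G) : Set G) ⊓ stabilizer G a : Subgroup G))
        rwa [Subgroup.orderOf_mk] at this
      obtain ⟨k, hk⟩ := hx
      have hk0 : k ≠ 0 := by
        rintro rfl
        rw [pow_zero] at hk
        exact hx1 (orderOf_eq_one_iff.1 hk)
      exact (dvd_pow_self p hk0).trans (hk ▸ h3)
  · intro hf
    obtain ⟨a, ha⟩ := (Set.ncard_pos (Set.toFinite _)).1 (Nat.pos_of_ne_zero hf)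
    have h1' : {ω : X | ∀ y ∈ (R : Subgroup G), y • ω = ω}.ncard *
      Nat.card (normalizer ((R : Subgroup G) : Set G) ⊓ stabilizer G a : Subgroup G) =
      Nat.card (normalizer ((R : Subgroup G) : Set G)) := card_fix_mul (X := X) R (a := a) ha
    rw [← h1']
    exact Nat.mul_dvd_mul_left _ (card_dvd_of_le (le_inf le_normalizer fun y hy => ha y hy))
  · have h1 := R.isPGroup'.card_modEq_card_fixedPoints (α := X)
    have h2 : Nat.card (fixedPoints (R : Subgroup G) X) = {ω : X | ∀ y ∈ (R : Subgroup G), y • ω = ω}.ncard := by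
      rw [← Nat.card_coe_set_eq]
      refine Nat.card_congr (Equiv.setCongr ?_)
      ext ω
      constructor
      · intro h y hy
        exact h ⟨y, hy⟩
      · rintro h ⟨y, hy⟩
        exact h y hy
    rw [← h2]
    exact h1.symm
  · intro hd
    by_contra hf
    obtain ⟨a, ha⟩ := (Set.ncard_pos (Set.toFinite _)).1 (Nat.pos_of_ne_zero hf)
    have h1 : (R : Subgroup G) ≤ stabilizer G a := fun y hy => ha y hy
    have h2 : (stabilizer G a).index ∣ (R : Subgroup G).index := Subgroup.index_dvd_of_le h1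
    rw [index_stabilizer_of_transitive] at h2
    exact R.not_dvd_index (hd.trans h2)
  · intro hle y hy ω
    have h1 : {ω : X | ∀ y ∈ (R : Subgroup G), y • ω = ω} = Set.univ := by
      apply Set.eq_of_subset_of_ncard_le (Set.subset_univ _) _ (Set.toFinite _)
      rw [Set.ncard_univ]
      exact hle
    have h2 : ω ∈ {ω : X | ∀ y ∈ (R : Subgroup G), y • ω = ω} := by rw [h1]; trivial
    exact h2 y hy

end

end Cfsg.Agent.H444.Fpr
end

-- part: H444/FprTable
section
/-!
# Fixed point ratio rows from the normalisers of Sylow subgroups of prime order (helper444)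

* `Known S r c e` : `r` is a prime dividing `|S|` exactly once, the centralisers of the elements `z` of order `r`
  have order `r c`, the normalisers of `⟨z⟩` have order `r c e`.
* `Known.of_cent` : `e` from `c` and the order of the group by Sylow's theorem.
* `row_table` : `FprRow a b p S` from a list of such data by a finite computation.
-/

set_option autoImplicit false
set_option linter.unusedSectionVars false
open Subgroup MulAction
open scoped Pointwise Nat

namespace Cfsg.Agent.H444.Fpr

/-- The normalisers of the subgroups of order `r`. -/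
structure Known (S : Type*) [Group S] (r c e : ℕ) : Prop where
  prime : r.Prime
  dvd : r ∣ Nat.card S
  nsq : ¬ r * r ∣ Nat.card S
  cent : ∀ z : S, orderOf z = r → Nat.card (centralizer ({z} : Set S)) = r * c
  norm : ∀ z : S, orderOf z = r → Nat.card (normalizer (zpowers z : Set S)) = r * c * e

section

variable {S : Type*} [Group S]

theorem Known.congr {S' : Type*} [Group S'] (f : S ≃* S') {r c e : ℕ} (h : Known S r c e) : Known S' r c e := by
  have hcard : Nat.card S' = Nat.card S := Nat.card_congr f.symm.toEquiv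
  refine ⟨h.prime, hcard ▸ h.dvd, hcard ▸ h.nsq, fun z hz => ?_, fun z hz => ?_⟩
  · have h1 : orderOf (f.symm z) = r := by rw [MulEquiv.orderOf_eq, hz]
    rw [← h.cent _ h1]
    refine Nat.card_congr ⟨fun g => ⟨f.symm g, ?_⟩, fun g => ⟨f g, ?_⟩, fun g => ?_, fun g => ?_⟩
    · rw [mem_centralizer_singleton_iff, ← map_mul, ← map_mul, mem_centralizer_singleton_iff.1 g.2]
    · rw [mem_centralizer_singleton_iff]
      apply f.symm.injective
      rw [map_mul, map_mul, f.symm_apply_apply, mem_centralizer_singleton_iff.1 g.2]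
    · exact Subtype.ext (f.apply_symm_apply _)
    · exact Subtype.ext (f.symm_apply_apply _)
  · have h1 : orderOf (f.symm z) = r := by rw [MulEquiv.orderOf_eq, hz]
    rw [← h.norm _ h1]
    have h2 : (zpowers (f.symm z)).map f.toMonoidHom = zpowers z := by
      rw [MonoidHom.map_zpowers]
      congr 1
      exact f.apply_symm_apply z
    have h3 : (normalizer (zpowers (f.symm z) : Set S)).map f.toMonoidHom = normalizer (zpowers z : Set S') := by
      rw [← h2]
      exact Subgroup.map_equiv_normalizer_eq _ f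
    rw [← h3]
    exact Nat.card_congr (Subgroup.equivMapOfInjective _ f.toMonoidHom f.injective).symm.toEquiv

/-- `e` from Sylow's theorem -/
theorem Known.of_cent [Finite S] {r c e N : ℕ} (hr : r.Prime) (hN : Nat.card S = N) (hd : N % r = 0)
    (hsq : N % (r * r) ≠ 0) {z : S} (hz : orderOf z = r) (hc : Nat.card (centralizer ({z} : Set S)) = r * c)
    (hchk : ((List.range r).all fun k => (r - 1) % k != 0 || N % (r * c * k) != 0 || (N / (r * c * k)) % r != 1 % r ||
      k == e) = true) : Known S r c e := by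
  have hsq' : ¬ r * r ∣ Nat.card S := by
    rw [hN]; exact fun h => hsq (Nat.mod_eq_zero_of_dvd h)
  have hcent : ∀ y : S, orderOf y = r → Nat.card (centralizer ({y} : Set S)) = r * c := fun y hy => by
    rw [H547.SelfCent.card_cent_eq hr hsq' hy hz, hc]
  refine ⟨hr, by rw [hN]; exact Nat.dvd_of_mod_eq_zero hd, hsq', hcent, fun y hy => ?_⟩
  obtain ⟨k, hk1, hk2, hk3, hk4, -⟩ := H547.SelfCent.arith hr hy hsq'
  rw [hcent y hy] at hk2 hk3 hk4
  rw [hN] at hk2 hk3
  have hk0 : 0 < k := by
    rcases Nat.eq_zero_or_pos k with rfl | h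
    · rw [zero_dvd_iff] at hk1
      have := hr.two_le
      omega
    · exact h
  have hkr : k < r := by
    have := Nat.le_of_dvd (by have := hr.two_le; omega) hk1
    have := hr.two_le
    omega
  rw [List.all_eq_true] at hchk
  have h1 := hchk k (List.mem_range.2 hkr)
  simp only [Bool.or_eq_true, bne_iff_ne, ne_eq, beq_iff_eq] at h1
  rcases h1 with ((h1 | h1) | h1) | h1
  · exact absurd (Nat.mod_eq_zero_of_dvd hk1) h1
  · exact absurd (Nat.mod_eq_zero_of_dvd hk2) h1
  · exact absurd hk3 h1
  · rw [hk4, h1]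

/-- a `p`-element outside a subgroup of index divisible by `p` -/
theorem exists_pelt_notMem [Finite S] {p : ℕ} (hp : p.Prime) {C N : Subgroup S} (hCN : C ≤ N)
    (h : Nat.card C * p ∣ Nat.card N) : ∃ x ∈ N, (∃ k, orderOf x = p ^ k) ∧ x ∉ C := by
  have : Fact p.Prime := ⟨hp⟩
  obtain ⟨Q⟩ : Nonempty (Sylow p N) := inferInstance
  by_contra hcon
  push Not at hcon
  have h1 : (Q : Subgroup N) ≤ C.subgroupOf N := by
    intro x hx
    rw [mem_subgroupOf]
    apply hcon (x : S) x.2
    obtain ⟨k, hk⟩ := IsPGroup.iff_orderOf.1 Q.isPGroup' ⟨x, hx⟩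
    exact ⟨k, by rw [← hk]; rw [Subgroup.orderOf_mk, Subgroup.orderOf_coe]⟩
  have h2 : (C.subgroupOf N).index ∣ (Q : Subgroup N).index := Subgroup.index_dvd_of_le h1
  have h3 : p ∣ (C.subgroupOf N).index := by
    have h4 := Subgroup.card_mul_index (C.subgroupOf N)
    rw [Nat.card_congr (Subgroup.subgroupOfEquivOfLe hCN).toEquiv] at h4
    rw [← h4] at h
    exact Nat.dvd_of_mul_dvd_mul_left Nat.card_pos h
  exact Q.not_dvd_index (h3.trans h2)

/-- the Sylow subgroup generated by `z` -/
theorem exists_sylow [Finite S] {r : ℕ} [Fact r.Prime] (hsq : ¬ r * r ∣ Nat.card S) {z : S} (hz : orderOf z = r) :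
    ∃ R : Sylow r S, (R : Subgroup S) = zpowers z := by
  have hcz : Nat.card (zpowers z) = r := by rw [Nat.card_zpowers, hz]
  have hidx : ¬ r ∣ (zpowers z).index := by
    intro h
    apply hsq
    rw [← Subgroup.card_mul_index (zpowers z), hcz]
    exact Nat.mul_dvd_mul_left r h
  have hP : IsPGroup r (zpowers z) := IsPGroup.of_card (n := 1) (by rw [hcz, pow_one])
  exact ⟨hP.toSylow hidx, rfl⟩

/-- the count for a `p`-element normalising a subgroup of prime order -/
theorem Known.bound [Finite S] {r c e p : ℕ} (h : Known S r c e) (hp : p.Prime) (hpr : p ≠ r) (hpe : p ∣ e) :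
    ∃ x : S, (∃ k, orderOf x = p ^ k) ∧ ∀ (X : Type _) [MulAction S X] [Finite X] [IsPretransitive S X],
      ∃ f u s : ℕ, Nat.card (fixedBy X x) = u + s ∧ f + r * s ≤ Nat.card X ∧ u ≤ f ∧
      (u ≠ 0 → f * p ∣ c * e) ∧ (f ≠ 0 → f ∣ c * e) ∧
      f % r = Nat.card X % r ∧ (r ∣ Nat.card X → f = 0) ∧
      (Nat.card X ≤ f → ∃ z : S, z ≠ 1 ∧ ∀ ω : X, z • ω = ω) := by
  have : Fact r.Prime := ⟨h.prime⟩
  obtain ⟨z, hz⟩ := exists_prime_orderOf_dvd_card' (G := S) r h.dvd
  obtain ⟨R, hR⟩ := exists_sylow h.nsq hz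
  have hRc : Nat.card R = r := by
    show Nat.card (R : Subgroup S) = r
    rw [hR, Nat.card_zpowers, hz]
  have hC : centralizer ({z} : Set S) ≤ normalizer (zpowers z : Set S) := H547.SelfCent.cent_le_norm z
  obtain ⟨x, hxN, hx, hxC⟩ := exists_pelt_notMem hp hC (by
    rw [h.cent z hz, h.norm z hz]
    exact Nat.mul_dvd_mul_left _ hpe)
  refine ⟨x, hx, fun X _ _ _ => ?_⟩
  have hx1 : x ≠ 1 := by
    rintro rfl
    exact hxC (one_mem _)
  have hzc : zpowers z ≤ centralizer ({z} : Set S) := by
    rw [zpowers_le]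
    exact mem_centralizer_singleton_iff.2 rfl
  have hfree : ∀ y ∈ R, x * y = y * x → y = 1 := by
    intro y hy hxy
    by_contra hy1
    have hy' : y ∈ zpowers z := by rw [← hR]; exact hy
    have h1 : zpowers y = zpowers z := by
      apply Subgroup.eq_of_le_of_card_ge (zpowers_le.2 hy')
      rw [Nat.card_zpowers, Nat.card_zpowers, hz]
      have h2 : orderOf y ∣ r := by
        rw [← hz, ← Nat.card_zpowers z, ← Subgroup.orderOf_mk y hy']
        exact orderOf_dvd_natCard _
      rcases (Nat.dvd_prime h.prime).1 h2 with h3 | h3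
      · exact absurd (orderOf_eq_one_iff.1 h3) hy1
      · exact h3.ge
    have h2 : z ∈ zpowers y := by rw [h1]; exact mem_zpowers z
    obtain ⟨k, hk⟩ := mem_zpowers_iff.1 h2
    apply hxC
    rw [mem_centralizer_singleton_iff, ← hk]
    exact ((show Commute x y from hxy).zpow_right k).eq
  obtain ⟨f, u, s, h1, h2, h3, h4, h5, h6, h7, h8'⟩ := norm_bound (X := X) hp hpr R hx hx1
    (by rw [hR]; exact hxN) hfree (m := r) (by
      rintro ω ⟨y, hy, hne⟩
      have h8 : Nat.card (orbit (R : Subgroup S) ω) ∣ r := by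
        have h10 : Nat.card (orbit (R : Subgroup S) ω) * Nat.card (stabilizer (R : Subgroup S) ω) =
            Nat.card (R : Subgroup S) := by
          rw [Nat.card_congr (orbitEquivQuotientStabilizer (R : Subgroup S) ω), mul_comm]
          exact Subgroup.card_mul_index _
        rw [show Nat.card (R : Subgroup S) = r from hRc] at h10
        exact Dvd.intro _ h10
      rcases (Nat.dvd_prime h.prime).1 h8 with h9 | h9
      · exfalso
        apply hne
        rw [Nat.card_eq_one_iff_unique] at h9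
        have := h9.1.elim ⟨y • ω, ⟨⟨y, hy⟩, rfl⟩⟩ ⟨ω, mem_orbit_self ω⟩
        exact congrArg Subtype.val this
      · exact h9.ge)
  have hNc : Nat.card (normalizer ((R : Subgroup S) : Set S)) = r * c * e := by rw [hR]; exact h.norm z hz
  rw [hRc, hNc] at h4 h5
  refine ⟨f, u, s, h1, h2, h3, fun hh => ?_, fun hh => ?_, h6, h7, fun hh => ⟨z, ?_, fun ω => ?_⟩⟩
  · have h8 := h4 hh
    rw [show f * (r * p) = r * (f * p) by ring, mul_assoc] at h8
    exact Nat.dvd_of_mul_dvd_mul_left h.prime.pos h8
  · have h8 := h5 hh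
    rw [mul_comm f r, mul_assoc] at h8
    exact Nat.dvd_of_mul_dvd_mul_left h.prime.pos h8
  · rintro rfl
    rw [orderOf_one] at hz
    exact h.prime.one_lt.ne hz
  · refine h8' hh z ?_ ω
    have : z ∈ (R : Subgroup S) := by rw [hR]; exact mem_zpowers z
    exact this

/-- the fixed points of an element of order `r` -/
theorem Known.fix [Finite S] {r c e : ℕ} (h : Known S r c e) :
    ∃ z : S, orderOf z = r ∧ ∀ (X : Type _) [MulAction S X] [Finite X] [IsPretransitive S X],
      (Nat.card (fixedBy X z) ≠ 0 → Nat.card (fixedBy X z) ∣ c * e) ∧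
      Nat.card (fixedBy X z) % r = Nat.card X % r ∧ (r ∣ Nat.card X → Nat.card (fixedBy X z) = 0) := by
  have : Fact r.Prime := ⟨h.prime⟩
  obtain ⟨z, hz⟩ := exists_prime_orderOf_dvd_card' (G := S) r h.dvd
  obtain ⟨R, hR⟩ := exists_sylow h.nsq hz
  have hRc : Nat.card R = r := by
    show Nat.card (R : Subgroup S) = r
    rw [hR, Nat.card_zpowers, hz]
  refine ⟨z, hz, fun X _ _ _ => ?_⟩
  have hset : fixedBy X z = {ω : X | ∀ y ∈ (R : Subgroup S), y • ω = ω} := by
    ext ω
    rw [hR]
    constructor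
    · intro hω y hy
      obtain ⟨k, rfl⟩ := mem_zpowers_iff.1 hy
      have h3 : z ∈ stabilizer S ω := hω
      exact zpow_mem h3 k
    · intro hω
      exact hω z (mem_zpowers z)
  have hNc : Nat.card (normalizer ((R : Subgroup S) : Set S)) = r * c * e := by rw [hR]; exact h.norm z hz
  rw [Nat.card_coe_set_eq, hset]
  refine ⟨fun hf => ?_, ?_, fun hd => ?_⟩
  · obtain ⟨a, ha⟩ := (Set.ncard_pos (Set.toFinite _)).1 (Nat.pos_of_ne_zero hf)
    have h1 := card_fix_mul (X := X) R (a := a) ha
    have h2 : Nat.card R ∣ Nat.card (normalizer ((R : Subgroup S) : Set S) ⊓ stabilizer S a : Subgroup S) :=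
      card_dvd_of_le (le_inf le_normalizer fun y hy => ha y hy)
    have h3 : {ω : X | ∀ y ∈ (R : Subgroup S), y • ω = ω}.ncard * r ∣ r * (c * e) := by
      rw [hRc] at h2
      rw [← mul_assoc, ← hNc, ← h1]
      exact Nat.mul_dvd_mul_left _ h2
    rw [mul_comm _ r] at h3
    exact Nat.dvd_of_mul_dvd_mul_left h.prime.pos h3
  · have h1 := R.isPGroup'.card_modEq_card_fixedPoints (α := X)
    have h2 : Nat.card (fixedPoints (R : Subgroup S) X) = {ω : X | ∀ y ∈ (R : Subgroup S), y • ω = ω}.ncard := by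
      rw [← Nat.card_coe_set_eq]
      refine Nat.card_congr (Equiv.setCongr ?_)
      ext ω
      constructor
      · intro h y hy
        exact h ⟨y, hy⟩
      · rintro h ⟨y, hy⟩
        exact h y hy
    rw [← h2]
    exact h1.symm
  · by_contra hf
    obtain ⟨a, ha⟩ := (Set.ncard_pos (Set.toFinite _)).1 (Nat.pos_of_ne_zero hf)
    have h1 : (R : Subgroup S) ≤ stabilizer S a := fun y hy => ha y hy
    have h2 : (stabilizer S a).index ∣ (R : Subgroup S).index := Subgroup.index_dvd_of_le h1
    rw [index_stabilizer_of_transitive] at h2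
    exact R.not_dvd_index (hd.trans h2)

/-! ### conditions on the index of a maximal subgroup -/

theorem order_le [Finite S] [IsSimpleGroup S] {M : Subgroup S} (hM : IsCoatom M) :
    Nat.card S ≤ 4 ^ M.index ∨ (M.index)! ≤ 2 * Nat.card S := by
  classical
  let X := S ⧸ M
  have hX : Nat.card X = M.index := rfl
  have : Fintype X := Fintype.ofFinite X
  have hXf : Fintype.card X = M.index := by rw [← hX, Nat.card_eq_fintype_card]
  let f : S →* Equiv.Perm X := toPermHom S X
  have hfi : Function.Injective f := SmallSimple.IndexJordan.toPermHom_injective hM.1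
  have hprim : IsPreprimitive S X := SmallSimple.IndexJordan.isPreprimitive_quotient hM
  have hprim' : IsPreprimitive f.range X := SmallSimple.IndexJordan.isPreprimitive_range S X
  have h4 : Nat.card f.range = Nat.card S := (Nat.card_congr (MonoidHom.ofInjective hfi).toEquiv).symm
  by_cases hA : alternatingGroup X ≤ f.range
  · right
    have hcardle := Subgroup.card_le_of_le hA
    rw [h4] at hcardle
    have : Nontrivial X := by
      rw [← Fintype.one_lt_card_iff_nontrivial, hXf]
      by_contra hcon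
      have h6 : M.index ≠ 0 := Subgroup.index_ne_zero_of_finite
      have h7 : M.index = 1 := by omega
      exact hM.1 (Subgroup.index_eq_one.1 h7)
    have h5 : 2 * Nat.card (alternatingGroup X) = Nat.card (Equiv.Perm X) := two_mul_nat_card_alternatingGroup
    rw [Nat.card_perm, hX] at h5
    omega
  · left
    have h6 := Cfsg.Agent.S0725.result f.range hprim' hA
    rw [h4, hXf] at h6
    exact h6

end

end Cfsg.Agent.H444.Fpr
end
end
end
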