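import Cfsg.Agent.BpSpor.MBigCo
import Cfsg.Agent.CpAutBig.FreeInv_m3
import Cfsg.Agent.H23.FreeAct
import Cfsg.Agent.H715.Fpr.Row4_m3
import Cfsg.Agent.H940.EngData
import Cfsg.Agent.Prune
set_option linter.all false
prune_inst 0x7f00000000000000000000000000000000000000000000000000000000000000000000000000000000000000000000000000000000000000000000000000000000000000000000000000000000000000003fffffffffffffffffffffffffffbeffbdffffffff
open scoped Cfsg.Agent.FastGrp

/-!
# The centralizer of an element of order 13 of `Co1` (helper444)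

* `free_three` : an element of order 3 of `Co0` commuting with an element of order 13 has no fixed vectors;
* `dvd_cent0` : `|C(a)|` divides `2 ^ 4 * 3 ^ 2 * 13` for `a ∈ Co0` of order 13;
* `dvd_cent1` : the same in `Co1`.
-/

set_option autoImplicit false

namespace Cfsg.Agent.H444.CoThirteen

open Cfsg Polynomial Module Cfsg.Agent.SporadicStructure.Co0Base
open Cfsg.Agent.SigZeroCo2.Lin Cfsg.Agent.CpAutBig Cfsg.Agent.CpAutBig.TwoPrimes
open Subgroup (centralizer zpowers mem_centralizer_singleton_iff)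

/-- a cyclic vector for `Φ_n(f)` when `φ(n) = dim V` -/
theorem exists_poly {V : Type*} [AddCommGroup V] [Module ℚ V] [FiniteDimensional ℚ V] (f : Module.End ℚ V) {n : ℕ}
    (hn : 0 < n) {u : V} (hu : u ≠ 0) (h : aeval f (cyclotomic n ℚ) u = 0) (hd : n.totient = finrank ℚ V) (v : V) :
    ∃ p : ℚ[X], aeval f p u = v := by
  let L : degreeLT ℚ n.totient →ₗ[ℚ] V :=
    { toFun := fun p => aeval f (p : ℚ[X]) u
      map_add' := fun p q => by
        change aeval f ((p : ℚ[X]) + (q : ℚ[X])) u = _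
        rw [map_add]; rfl
      map_smul' := fun c p => by
        change aeval f (c • (p : ℚ[X])) u = _
        rw [map_smul]; rfl }
  have hL : Function.Injective L := by
    rw [injective_iff_map_eq_zero]
    rintro ⟨p, hp⟩ hz
    by_contra hne
    have hp0 : p ≠ 0 := fun h0 => hne (Subtype.ext h0)
    have hz' : aeval f p u = 0 := hz
    have hirr := cyclotomic.irreducible_rat hn
    have hcop : IsCoprime p (cyclotomic n ℚ) := by
      refine ((Irreducible.coprime_iff_not_dvd hirr).2 fun hd => ?_).symm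
      have h1 := Polynomial.natDegree_le_of_dvd hd hp0
      rw [natDegree_cyclotomic] at h1
      rw [mem_degreeLT] at hp
      have h2 := (Polynomial.natDegree_lt_iff_degree_lt hp0).2 hp
      omega
    obtain ⟨a, b, hab⟩ := hcop
    have h3 : aeval f (a * p + b * cyclotomic n ℚ) u = u := by
      rw [hab, map_one]; rfl
    rw [map_add, map_mul, map_mul] at h3
    have h4 : (aeval f a * aeval f p) u + (aeval f b * aeval f (cyclotomic n ℚ)) u = u := h3
    rw [Module.End.mul_apply, Module.End.mul_apply, hz', h, map_zero, map_zero, add_zero] at h4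
    exact hu h4.symm
  have hfr : finrank ℚ (degreeLT ℚ n.totient) = finrank ℚ V := by
    rw [(degreeLTEquiv ℚ n.totient).finrank_eq, finrank_fin_fun, hd]
  obtain ⟨p, hp⟩ := (LinearMap.injective_iff_surjective_of_finrank_eq_finrank hfr).1 hL v
  exact ⟨p, hp⟩

/-- the fixed points of a power -/
theorem fix_of_pow (T : Module.End ℚ Sp) (a b : ℕ) (hab : a.Coprime b) (hT : T ^ b = 1) (v : Sp)
    (hv : (T ^ a) v = v) : T v = v := by
  have hpow : ∀ k, (T ^ (a * k)) v = v := by
    intro k
    induction k with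
    | zero => rw [mul_zero, pow_zero]; rfl
    | succ k ih => rw [mul_add, mul_one, pow_add, Module.End.mul_apply, hv, ih]
  by_cases hb : b = 1
  · rw [hb, pow_one] at hT
    rw [hT]; rfl
  by_cases hb0 : b = 0
  · rw [hb0, Nat.coprime_zero_right] at hab
    rw [hab, pow_one] at hv
    exact hv
  obtain ⟨m, hm⟩ := Nat.exists_mul_mod_eq_one_of_coprime hab (by omega)
  have h1 : T ^ (a * m) = T := by
    conv_rhs => rw [← pow_one T]
    rw [← Nat.div_add_mod (a * m) b, hm.2, pow_add, pow_mul, hT, one_pow, one_mul]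
  rw [← h1]
  exact hpow m

/-- **An element of order 3 commuting with an element of order 13 has no fixed vectors.** -/
theorem free_three {x y : Co0} (hx : orderOf x = 13) (hy : orderOf y = 3) (hyc : y * x = x * y) :
    ∀ v : leechLattice, y • v = v → v = 0 := by
  intro v0 hv0
  have hfree := BpSpor.MBigCo.free_thirteen hx
  have hcomm : Commute (rep x) (rep y) := by
    change rep x * rep y = rep y * rep x
    rw [← map_mul, ← map_mul, hyc]
  have hX : (rep x) ^ 13 = 1 := by rw [← map_pow, ← hx, pow_orderOf_eq_one, map_one]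
  have hY : (rep y) ^ 3 = 1 := by rw [← map_pow, ← hy, pow_orderOf_eq_one, map_one]
  have hYv : rep y (toV v0) = toV v0 := by rw [rep_toV, hv0]
  obtain ⟨X', hX'⟩ : ∃ X', X' = rep x := ⟨_, rfl⟩
  obtain ⟨Y', hY'⟩ : ∃ Y', Y' = rep y := ⟨_, rfl⟩
  rw [← hX'] at hX hcomm
  rw [← hY'] at hY hcomm hYv
  have hXf : ∀ v, X' v = v → v = 0 := fun v hv => free_rep hfree (by rw [← hX']; exact hv)
  -- a vector moved by `y`
  obtain ⟨w, hw⟩ : ∃ w, Y' w ≠ w := by
    by_contra hcon
    push Not at hcon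
    have h1 : rep y = 1 := by
      rw [← hY']
      exact LinearMap.ext hcon
    have h2 : y = 1 := rep_injective (by rw [h1, map_one])
    rw [h2, orderOf_one] at hy
    norm_num at hy
  obtain ⟨g, hg⟩ : ∃ g, g = X' * Y' := ⟨_, rfl⟩
  have hgn : ∀ n, g ^ n = X' ^ n * Y' ^ n := fun n => by rw [hg, hcomm.mul_pow]
  have hgq : g ^ 3 = X' ^ 3 := by rw [hgn, hY, mul_one]
  have hgp : g ^ 13 = Y' ^ 13 := by rw [hgn, hX, one_mul]
  have hgpq : g ^ (3 * 13) = 1 := by rw [pow_mul, hgq, ← pow_mul, mul_comm, pow_mul, hX, one_pow]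
  have hgY : Commute g Y' := by
    rw [hg]
    exact hcomm.mul_left (Commute.refl _)
  have hcop : Nat.Coprime 3 13 := by norm_num
  let u := Y' w - w
  have hu : u ≠ 0 := sub_ne_zero.2 hw
  have hpol : (X ^ 3 - 1) * ((X ^ 13 - 1) * cyclotomic (3 * 13) ℚ) = (X - 1) * (X ^ (3 * 13) - 1) := by
    rw [mul_comm (X - 1), ← cyclotomic_mul (p := 13) (q := 3) (by norm_num) (by norm_num) (by norm_num)]
    ring
  have key := congrArg (fun P : ℚ[X] => aeval g P u) hpol
  simp only [map_mul, map_sub, map_pow, aeval_X, map_one] at key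
  rw [hgpq, sub_self, mul_zero, hgq, hgp] at key
  obtain ⟨u', hu'⟩ : ∃ u', u' = aeval g (cyclotomic (3 * 13) ℚ) u := ⟨_, rfl⟩
  have key2 : (X' ^ 3 - 1 : Module.End ℚ Sp) ((Y' ^ 13 - 1 : Module.End ℚ Sp) u') = 0 := by
    rw [hu']
    exact key
  have h1 : (Y' ^ 13 - 1 : Module.End ℚ Sp) u' = 0 := by
    obtain ⟨t, ht⟩ : ∃ t, t = (Y' ^ 13 - 1 : Module.End ℚ Sp) u' := ⟨_, rfl⟩
    rw [← ht] at key2 ⊢
    have h2 : (X' ^ 3) t - t = 0 := key2
    exact hXf t (fix_of_pow X' 3 13 hcop hX t (sub_eq_zero.1 h2))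
  have h2 : Y' u' = u' := by
    have h3 : (Y' ^ 13) u' - u' = 0 := h1
    exact fix_of_pow Y' 13 3 hcop.symm hY u' (sub_eq_zero.1 h3)
  have hcY : ∀ P : ℚ[X], aeval g P (Y' w) = Y' (aeval g P w) := by
    intro P
    have hc : Commute (aeval g P) Y' := by
      have := Polynomial.aeval_eq_sum_range (p := P) g
      rw [this]
      apply Commute.sum_left
      intro i _
      exact (hgY.pow_left i).smul_left _
    rw [← Module.End.mul_apply, ← Module.End.mul_apply, hc]
  have h3 : u' = Y' (aeval g (cyclotomic (3 * 13) ℚ) w) - aeval g (cyclotomic (3 * 13) ℚ) w := by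
    rw [hu', ← hcY]
    exact map_sub _ _ _
  have h4 := eq_zero_of_range Y' (n := 3) (by norm_num) hY h2 h3
  have h6 : finrank ℚ Sp = 24 := by
    rw [Module.finrank_fintype_fun_eq_card]
    rfl
  obtain ⟨P, hP⟩ := exists_poly g (n := 3 * 13) (by norm_num) hu (hu'.symm.trans h4) (by
    rw [Nat.totient_mul hcop, Nat.totient_prime (by norm_num), Nat.totient_prime (by norm_num), h6]) (toV v0)
  have h7 : toV v0 = Y' (aeval g P w) - aeval g P w := by
    rw [← hP, ← hcY]
    exact map_sub _ _ _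
  have h8 := eq_zero_of_range Y' (n := 3) (by norm_num) hY hYv h7
  exact toV_injective (h8.trans toV_zero.symm)

/-- the vectors of norm `n` -/
def Vn (n : ℤ) : Type := {v : leechLattice // sqNorm (v : GolayPt → ℤ) = n}

theorem card_Vn {n : ℤ} (hn : n = 32 ∨ n = 48 ∨ n = 64) : Nat.card (Vn n) = CoZero.cnt n := by
  rw [← CoZero.ncard_eq hn, ← Nat.card_coe_set_eq]
  exact Nat.card_congr
    { toFun := fun v => ⟨((v.1 : leechLattice) : GolayPt → ℤ), v.1.2, v.2⟩
      invFun := fun v => ⟨⟨(v : GolayPt → ℤ), v.2.1⟩, v.2.2⟩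
      left_inv := fun _ => rfl
      right_inv := fun _ => rfl }

/-- a subgroup acting without fixed vectors -/
theorem card_dvd {n : ℤ} (hn : n = 32 ∨ n = 48 ∨ n = 64) (P : Subgroup Co0)
    (hP : ∀ g ∈ P, g ≠ 1 → ∀ v : leechLattice, g • v = v → v = 0) : Nat.card P ∣ CoZero.cnt n := by
  have hfin := CoZero.finite_co0
  have hc := card_Vn hn
  have hfV : Finite (Vn n) := by
    apply Nat.finite_of_card_ne_zero
    rw [hc]
    unfold CoZero.cnt
    split_ifs <;> norm_num
  let act : MulAction P (Vn n) :=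
    { smul := fun g v => ⟨(g : Co0) • v.1, by rw [co0_sqNorm]; exact v.2⟩
      one_smul := fun v => Subtype.ext (one_smul Co0 v.1)
      mul_smul := fun g h v => Subtype.ext (mul_smul (g : Co0) (h : Co0) v.1) }
  rw [← hc]
  apply H23.FreeAct.card_dvd_of_free
  intro g v hv
  by_contra hg
  have h1 : (g : Co0) • v.1 = v.1 := congrArg Subtype.val hv
  have h2 := hP g g.2 (fun h => hg (Subtype.ext h)) v.1 h1
  have h3 := v.2
  rw [h2] at h3
  have h4 : sqNorm ((0 : leechLattice) : GolayPt → ℤ) = 0 := FixCount.sqNorm_zero'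
  omega

/-- an element with a fixed point free power has no fixed vectors -/
theorem free_of_pow {g : Co0} (k : ℕ) (h : ∀ v : leechLattice, g ^ k • v = v → v = 0) :
    ∀ v : leechLattice, g • v = v → v = 0 := by
  intro v hv
  apply h
  have h1 : g ∈ MulAction.stabilizer Co0 v := hv
  exact Subgroup.pow_mem _ h1 k

/-- a `q`-element of `C(a)`, `q = 2, 3`, has no fixed vectors -/
theorem free_of_order {a g : Co0} (ha : orderOf a = 13) (hc : g * a = a * g) {q k : ℕ} (hq : q = 2 ∨ q = 3)
    (hg : g ^ q ^ k = 1) (hg1 : g ≠ 1) : ∀ v : leechLattice, g • v = v → v = 0 := by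
  have hqp : q.Prime := by rcases hq with rfl | rfl <;> norm_num
  obtain ⟨m, -, hm⟩ := (Nat.dvd_prime_pow hqp).1 (orderOf_dvd_of_pow_eq_one hg)
  have hm0 : m ≠ 0 := by
    rintro rfl
    rw [pow_zero] at hm
    exact hg1 (orderOf_eq_one_iff.1 hm)
  have ho : orderOf (g ^ q ^ (m - 1)) = q := by
    rw [orderOf_pow_of_dvd (pow_pos hqp.pos _).ne' (by rw [hm]; exact pow_dvd_pow q (by omega)), hm,
      Nat.pow_div (by omega) hqp.pos]
    rw [show m - (m - 1) = 1 by omega, pow_one]
  have hcm : g ^ q ^ (m - 1) * a = a * g ^ q ^ (m - 1) := (Commute.pow_left hc _).eq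
  apply free_of_pow (q ^ (m - 1))
  rcases hq with rfl | rfl
  · have h2 := pow_orderOf_eq_one (g ^ 2 ^ (m - 1))
    rw [ho, pow_two] at h2
    have h3 : g ^ 2 ^ (m - 1) ≠ 1 := by
      intro h
      rw [h, orderOf_one] at ho
      norm_num at ho
    have h4 := FreeInv.eq_neg_of_free (p := 13) (by norm_num) (by norm_num) (by norm_num)
      (by rw [← ha, pow_orderOf_eq_one]) (BpSpor.MBigCo.free_thirteen ha) h2 h3 hcm.symm
    intro v hv
    rw [h4] at hv
    have h5 : -v = v := hv
    apply Subtype.ext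
    funext i
    have h6 := congrArg (fun u : leechLattice => (u : GolayPt → ℤ) i) h5
    have h7 : -((v : GolayPt → ℤ) i) = (v : GolayPt → ℤ) i := h6
    show (v : GolayPt → ℤ) i = 0
    omega
  · exact free_three ha ho hcm

/-- **the 2-part and the 3-part of `C(a)`** -/
theorem not_dvd_pow {a : Co0} (ha : orderOf a = 13) {q e : ℕ} (h : q = 2 ∧ e = 5 ∨ q = 3 ∧ e = 3) :
    ¬ q ^ e ∣ Nat.card ↥(centralizer ({a} : Set Co0)) := by
  intro hd
  have hfin := CoZero.finite_co0
  have hqp : q.Prime := by rcases h with ⟨rfl, -⟩ | ⟨rfl, -⟩ <;> norm_num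
  have : Fact q.Prime := ⟨hqp⟩
  obtain ⟨P, hP⟩ := Sylow.exists_subgroup_card_pow_prime q hd
  have hcP : Nat.card (P.map (centralizer ({a} : Set Co0)).subtype) = q ^ e := by
    rw [Subgroup.card_map_of_injective (centralizer ({a} : Set Co0)).subtype_injective, hP]
  have hfree : ∀ g ∈ P.map (centralizer ({a} : Set Co0)).subtype, g ≠ 1 →
      ∀ v : leechLattice, g • v = v → v = 0 := by
    rintro _ ⟨g, hg, rfl⟩ hg1
    refine free_of_order (q := q) (k := e) ha (mem_centralizer_singleton_iff.1 g.2) ?_ ?_ hg1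
    · rcases h with ⟨rfl, -⟩ | ⟨rfl, -⟩
      · exact Or.inl rfl
      · exact Or.inr rfl
    · have h1 : (⟨g, hg⟩ : P) ^ Nat.card P = 1 := pow_card_eq_one'
      rw [hP] at h1
      exact congrArg (fun u : P => (((u : ↥(centralizer ({a} : Set Co0)))) : Co0)) h1
  rcases h with ⟨rfl, rfl⟩ | ⟨rfl, rfl⟩
  · have h1 := card_dvd (n := 32) (Or.inl rfl) _ hfree
    rw [hcP] at h1
    revert h1
    unfold CoZero.cnt
    norm_num
  · have h1 := card_dvd (n := 48) (Or.inr (Or.inl rfl)) _ hfree
    rw [hcP] at h1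
    revert h1
    unfold CoZero.cnt
    norm_num

open Cfsg.Agent.BpSpor.MBigCo Cfsg.Agent.CoOneType.ClosingFacts in
/-- the centralizer in `Co1` is the image of the centralizer in `Co0` -/
theorem dvd_cent_lift {a : Co0} (ha : a ^ 13 = 1) :
    Nat.card ↥(centralizer ({_root_.Cfsg.Agent.CoOneType.ClosingFacts.mk a} : Set Spor.Co1)) ∣ Nat.card ↥(centralizer ({a} : Set Co0)) := by
  have hfin := CoZero.finite_co0
  let q : ↥(centralizer ({a} : Set Co0)) →* Spor.Co1 :=
    (QuotientGroup.mk' (Subgroup.center Co0)).comp (centralizer ({a} : Set Co0)).subtype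
  have hq : ∀ a, q a = _root_.Cfsg.Agent.CoOneType.ClosingFacts.mk (a : Co0) := fun a => rfl
  have h1 : q.range = centralizer ({_root_.Cfsg.Agent.CoOneType.ClosingFacts.mk a} : Set Spor.Co1) := by
    apply le_antisymm
    · rintro _ ⟨b, rfl⟩
      rw [mem_centralizer_singleton_iff]
      have h2 := mem_centralizer_singleton_iff.1 b.2
      show _root_.Cfsg.Agent.CoOneType.ClosingFacts.mk ((b : Co0) * a) = _root_.Cfsg.Agent.CoOneType.ClosingFacts.mk (a * b)
      rw [h2]
    · intro s hs
      obtain ⟨b, rfl⟩ := exists_mk s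
      have h2 : _root_.Cfsg.Agent.CoOneType.ClosingFacts.mk a * _root_.Cfsg.Agent.CoOneType.ClosingFacts.mk b = _root_.Cfsg.Agent.CoOneType.ClosingFacts.mk b * _root_.Cfsg.Agent.CoOneType.ClosingFacts.mk a := (mem_centralizer_singleton_iff.1 hs).symm
      have h3 := LThreeBX.NoSeven.comm_of_mk (n := 13) (by decide) ha h2
      exact ⟨⟨b, mem_centralizer_singleton_iff.2 h3.symm⟩, rfl⟩
  rw [← h1]
  exact Subgroup.card_range_dvd q

open Cfsg.Agent.BpSpor.MBigCo in
/-- **the centralizer of an element of order 13 of `Co1`** -/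
theorem dvd_cent {s : Spor.Co1} (hs : orderOf s = 13) :
    Nat.card ↥(centralizer ({s} : Set Spor.Co1)) ∣ 2 ^ 4 * 3 ^ 2 * 13 := by
  have hf := finite_co1
  obtain ⟨a, rfl, ha13, ha⟩ := exists_lift_thirteen hs
  have h1 := dvd_cent_lift ha13
  have h2 : Nat.card ↥(centralizer ({Cfsg.Agent.CoOneType.ClosingFacts.mk a} : Set Spor.Co1)) ∣
      H940.Eng.D.n_co1 := by
    have := Subgroup.card_subgroup_dvd_card (centralizer ({Cfsg.Agent.CoOneType.ClosingFacts.mk a} : Set Spor.Co1))
    rwa [card_co1] at this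
  have h3 := H940.Eng.dvd_filter H940.Eng.D.v_co1 h2 [5, 7, 11, 23] (by
    intro p hp
    simp only [List.mem_cons, List.not_mem_nil, or_false] at hp
    rcases hp with rfl | rfl | rfl | rfl <;>
      exact fun hd => not_dvd_thirteen ha (by norm_num) (by norm_num) (by norm_num) (hd.trans h1))
  have h4 := H940.Eng.dvd_caps (n := 2 ^ 21 * 3 ^ 9 * 13) (l := [(2, 21), (3, 9), (13, 1)])
    (f := [(2, 4), (3, 2), (13, 1)]) (by decide +kernel)
    (m := Nat.card ↥(centralizer ({Cfsg.Agent.CoOneType.ClosingFacts.mk a} : Set Spor.Co1))) h3 (by decide +kernel)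
    (by
      intro y hy
      simp only [List.mem_cons, List.not_mem_nil, or_false] at hy
      rcases hy with rfl | rfl | rfl <;> norm_num) (by
      intro y hy
      simp only [List.mem_cons, List.not_mem_nil, or_false] at hy
      rcases hy with rfl | rfl | rfl
      · exact fun hd => not_dvd_pow ha (Or.inl ⟨rfl, rfl⟩) (hd.trans h1)
      · exact fun hd => not_dvd_pow ha (Or.inr ⟨rfl, rfl⟩) (hd.trans h1)
      · intro hd
        have h5 : 13 ^ (1 + 1) ∣ H940.Eng.D.n_co1 := hd.trans h2
        revert h5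
        unfold H940.Eng.D.n_co1
        norm_num)
  exact h4

end Cfsg.Agent.H444.CoThirteen
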